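import Mathlib
import Groth.Agent.NormalLib.CompletionReduced
import Groth.Agent.HenselLib.Local
import Groth.Agent.S9604
import Groth.Agent.GeomRedFibLib.CplFibres

/-!
# Completions of local rings of finite algebras
-/

set_option autoImplicit false
set_option synthInstance.maxHeartbeats 80000
universe u

open TensorProduct IsLocalRing

namespace GRingFinLib

attribute [local instance] Algebra.TensorProduct.rightAlgebra

/-- Localisations of finite algebras over Henselian local rings at maximal ideals are quotients. -/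
theorem surjective_localization {R T : Type u} [CommRing R] [HenselianLocalRing R] [CommRing T] [Algebra R T]
    [Module.Finite R T] (M : Ideal T) [M.IsMaximal] :
    Function.Surjective (algebraMap T (Localization.AtPrime M)) := by
  classical
  obtain ⟨ι, _, Li, _, hloc, ⟨e⟩⟩ := HenselLib.exists_pi_local (R := R) T
  haveI := hloc
  let ε : ι → T := fun i => e.symm (Pi.single i 1)
  have hsum : ∑ i, ε i = 1 := by
    rw [← map_sum, Finset.univ_sum_single (fun i => (1 : Li i))]
    exact map_one e.symm
  obtain ⟨i, hi⟩ : ∃ i, ε i ∉ M := by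
    by_contra! h
    exact M.ne_top_iff_one.mp (Ideal.IsPrime.ne_top inferInstance) (hsum ▸ M.sum_mem fun i _ => h i)
  let π : T →+* Li i := (Pi.evalRingHom Li i).comp e.toRingHom
  have hπsurj : Function.Surjective π := fun y => ⟨e.symm (Pi.single i y), by simp [π]⟩
  have hkey : ∀ x, π x = 0 → ε i * x = 0 := fun x hx => e.injective (by
    rw [map_mul, map_zero]
    refine funext fun j => ?_
    by_cases hj : j = i
    · subst hj
      have hx' : e x j = 0 := hx
      simp [hx']
    · simp [ε, hj])
  have hMker : RingHom.ker π ≤ M := fun x hx =>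
    ((inferInstance : M.IsPrime).mem_or_mem (by rw [hkey x hx]; exact zero_mem _)).resolve_left hi
  have hMmax : M = (maximalIdeal (Li i)).comap π := by
    have hmap : M.map π ≠ ⊤ := fun h => by
      have h2 := congrArg (Ideal.comap π) h
      rw [Ideal.comap_map_of_surjective π hπsurj, ← RingHom.ker_eq_comap_bot, sup_eq_left.mpr hMker,
        Ideal.comap_top] at h2
      exact Ideal.IsPrime.ne_top inferInstance h2
    refine (‹M.IsMaximal›).eq_of_le (Ideal.comap_ne_top _ (maximalIdeal.isMaximal (Li i)).ne_top) ?_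
    exact Ideal.map_le_iff_le_comap.mp (IsLocalRing.le_maximalIdeal hmap)
  have hone : algebraMap T (Localization.AtPrime M) (ε i) = 1 := by
    have hu : IsUnit (algebraMap T (Localization.AtPrime M) (ε i)) :=
      IsLocalization.map_units (Localization.AtPrime M) (⟨ε i, hi⟩ : M.primeCompl)
    refine hu.mul_left_cancel ?_
    rw [mul_one, ← map_mul]
    refine congrArg _ (e.injective ?_)
    rw [map_mul]
    refine funext fun j => ?_
    by_cases hj : j = i
    · subst hj; simp [ε]
    · simp [ε, hj]
  intro z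
  obtain ⟨x, ⟨t, ht⟩, rfl⟩ := IsLocalization.exists_mk'_eq M.primeCompl z
  have hu : IsUnit (π t) := notMem_maximalIdeal.mp fun h => ht (hMmax.ge h)
  obtain ⟨s, hs⟩ := hπsurj (↑hu.unit⁻¹ : Li i)
  refine ⟨x * s, ?_⟩
  rw [eq_comm, IsLocalization.mk'_eq_iff_eq_mul, ← map_mul]
  have h1 : ε i * (t * s - 1) = 0 := hkey _ (by rw [map_sub, map_mul, hs, map_one, IsUnit.mul_val_inv, sub_self])
  have h2 := congrArg (algebraMap T (Localization.AtPrime M)) h1
  rw [map_mul, hone, one_mul, map_sub, map_one, map_zero, sub_eq_zero] at h2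
  rw [show x * s * t = x * (t * s) by ring, map_mul, h2, mul_one]

/-- The comparison, with the completions given by their universal properties. -/
theorem exists_equiv_of_universal {R C C' Rh H : Type u} [CommRing R] [IsLocalRing R] [IsNoetherianRing R] [CommRing C]
    [Algebra R C] [Module.Finite R C] (n : Ideal C) [n.IsMaximal] [CommRing C'] [IsLocalRing C']
    [Algebra C C'] [IsLocalization.AtPrime C' n] [CommRing Rh] [Algebra R Rh] [IsLocalRing Rh] [IsNoetherianRing Rh]
    [IsAdicComplete (maximalIdeal Rh) Rh] [CommRing H] [IsLocalRing H] [IsHausdorff (maximalIdeal H) H]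
    [Algebra C' H] [IsLocalHom (algebraMap C' H)]
    (hRh : (maximalIdeal R).map (algebraMap R Rh) = maximalIdeal Rh)
    (happ : ∀ z : Rh, ∃ a : R, z - algebraMap R Rh a ∈ maximalIdeal Rh)
    (r₀ : Rh →+* H) (hr₀ : ∀ a, r₀ (algebraMap R Rh a) = algebraMap C' H (algebraMap C C' (algebraMap R C a)))
    (hextR : ∀ (B : Type u) [CommRing B] [IsLocalRing B] [IsHausdorff (maximalIdeal B) B] (f g : Rh →+* B),
      (∀ a ∈ maximalIdeal R, f (algebraMap R Rh a) ∈ maximalIdeal B) →
      (∀ a, f (algebraMap R Rh a) = g (algebraMap R Rh a)) → f = g)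
    (hextH : ∀ (B : Type u) [CommRing B] [IsLocalRing B] [IsHausdorff (maximalIdeal B) B] (f g : H →+* B),
      (∀ a ∈ maximalIdeal C', f (algebraMap C' H a) ∈ maximalIdeal B) →
      (∀ a, f (algebraMap C' H a) = g (algebraMap C' H a)) → f = g)
    (hliftH : ∀ (B : Type u) [CommRing B] [IsLocalRing B] [IsAdicComplete (maximalIdeal B) B] (ψ : C' →+* B),
      (maximalIdeal C').map ψ ≤ maximalIdeal B → ∃ φ : H →+* B, ∀ x, φ (algebraMap C' H x) = ψ x) :
    ∃ (M : Ideal (C ⊗[R] Rh)) (_ : M.IsPrime) (e : H ≃+* Localization.AtPrime M),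
      ∀ c : C, e (algebraMap C' H (algebraMap C C' c)) =
        algebraMap (C ⊗[R] Rh) (Localization.AtPrime M) (c ⊗ₜ[R] 1) := by
  letI : Algebra R C' := ((algebraMap C C').comp (algebraMap R C)).toAlgebra
  haveI : IsScalarTower R C C' := IsScalarTower.of_algebraMap_eq fun r => rfl
  letI : Algebra R H := ((algebraMap C' H).comp (algebraMap R C')).toAlgebra
  letI : Algebra C H := ((algebraMap C' H).comp (algebraMap C C')).toAlgebra
  haveI : IsScalarTower R C H := IsScalarTower.of_algebraMap_eq fun r => rfl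
  let T := C ⊗[R] Rh
  let Jh : Ideal Rh := maximalIdeal Rh
  have hintC : Algebra.IsIntegral R C := Algebra.IsIntegral.of_finite R C
  have hn : n.comap (algebraMap R C) = maximalIdeal R :=
    IsLocalRing.eq_maximalIdeal (Ideal.isMaximal_comap_of_isIntegral_of_isMaximal n)
  have hcomapC' : (maximalIdeal C').comap (algebraMap C C') = n :=
    IsLocalization.AtPrime.under_maximalIdeal C' n
  let r₁ : Rh →ₐ[R] H := { r₀ with commutes' := hr₀ }
  let θ : T →ₐ[R] H := Algebra.TensorProduct.lift (IsScalarTower.toAlgHom R C H) r₁ fun _ _ => .all _ _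
  have hθC : ∀ c, θ (c ⊗ₜ 1) = algebraMap C' H (algebraMap C C' c) := fun c => by
    rw [Algebra.TensorProduct.lift_tmul, map_one, mul_one]
    rfl
  let M : Ideal T := (maximalIdeal H).comap θ.toRingHom
  haveI hMp : M.IsPrime := Ideal.IsPrime.comap _
  have hHloc : (maximalIdeal H).comap (algebraMap C' H) = maximalIdeal C' :=
    ((IsLocalRing.local_hom_TFAE (algebraMap C' H)).out 0 4 :).mp inferInstance
  have hMC : ∀ c, c ⊗ₜ[R] (1 : Rh) ∈ M ↔ c ∈ n := fun c => by
    show θ (c ⊗ₜ 1) ∈ maximalIdeal H ↔ _
    rw [hθC, ← Ideal.mem_comap, hHloc, ← Ideal.mem_comap, hcomapC']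
  -- every element of `T` is congruent to one of `C`
  have happrox : ∀ t : T, ∃ c : C, t - c ⊗ₜ 1 ∈ Jh.map (algebraMap Rh T) := by
    intro t
    induction t using TensorProduct.induction_on with
    | zero => exact ⟨0, by simp⟩
    | tmul c z =>
      obtain ⟨a, ha⟩ := happ z
      refine ⟨a • c, ?_⟩
      rw [TensorProduct.smul_tmul, ← TensorProduct.tmul_sub, Algebra.smul_def, mul_one]
      rw [show c ⊗ₜ[R] (z - algebraMap R Rh a) = (c ⊗ₜ[R] (1 : Rh)) * algebraMap Rh T (z - algebraMap R Rh a) by
        rw [Algebra.TensorProduct.right_algebraMap_apply, Algebra.TensorProduct.tmul_mul_tmul, mul_one, one_mul]]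
      exact Ideal.mul_mem_left _ _ (Ideal.mem_map_of_mem _ ha)
    | add x y hx hy =>
      obtain ⟨c, hc⟩ := hx
      obtain ⟨d, hd⟩ := hy
      refine ⟨c + d, ?_⟩
      rw [TensorProduct.add_tmul, add_sub_add_comm]
      exact add_mem hc hd
  have hJM : Jh.map (algebraMap Rh T) ≤ M := by
    rw [show Jh = _ from hRh.symm, Ideal.map_map, Ideal.map_le_iff_le_comap]
    intro r hr
    show (algebraMap Rh T) (algebraMap R Rh r) ∈ M
    rw [show (algebraMap Rh T) (algebraMap R Rh r) = algebraMap R C r ⊗ₜ[R] (1 : Rh) by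
      rw [Algebra.TensorProduct.right_algebraMap_apply, Algebra.algebraMap_eq_smul_one, Algebra.algebraMap_eq_smul_one,
        TensorProduct.smul_tmul], hMC, ← Ideal.mem_comap, hn]
    exact hr
  haveI hMmax : M.IsMaximal := by
    refine Ideal.isMaximal_iff.mpr ⟨fun h => hMp.ne_top ((Ideal.eq_top_iff_one _).mpr h), fun I x hMI hxM hxI => ?_⟩
    obtain ⟨c, hc⟩ := happrox x
    have hcn : c ∉ n := fun h => hxM (by simpa using add_mem (hJM hc) ((hMC c).mpr h))
    obtain ⟨u, hu⟩ := (Ideal.IsMaximal.exists_inv ‹n.IsMaximal› hcn)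
    obtain ⟨v, hv, huv⟩ := hu
    have hcI : c ⊗ₜ[R] (1 : Rh) ∈ I := by simpa using sub_mem hxI (hMI (hJM hc))
    rw [show (1 : T) = (u ⊗ₜ[R] (1 : Rh)) * (c ⊗ₜ[R] 1) + v ⊗ₜ[R] 1 by
      rw [Algebra.TensorProduct.tmul_mul_tmul, mul_one, ← TensorProduct.add_tmul, huv]; rfl]
    exact add_mem (I.mul_mem_left _ hcI) (hMI ((hMC v).mpr hv))
  haveI : HenselianRing Rh (maximalIdeal Rh) := inferInstance
  haveI : HenselianLocalRing Rh := HenselLib.henselianLocalRing_of_henselianRing
  haveI : Module.Finite Rh T := Module.Finite.equiv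
    (AlgEquiv.ofRingEquiv (R := Rh) (f := (Algebra.TensorProduct.comm R Rh C).toRingEquiv) fun z => by
      rw [Algebra.TensorProduct.right_algebraMap_apply]; rfl).toLinearEquiv
  let L := Localization.AtPrime M
  have hsurjL : Function.Surjective (algebraMap T L) := surjective_localization (R := Rh) M
  haveI : Module.Finite Rh L :=
    Module.Finite.of_surjective ((IsScalarTower.toAlgHom Rh T L).toLinearMap) hsurjL
  haveI : IsNoetherianRing L := IsNoetherianRing.of_finite Rh L
  -- `L` is complete
  haveI hLc : IsAdicComplete (Jh.map (algebraMap Rh L)) L :=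
    (IsAdicComplete.map_algebraMap_iff _ _).2 CompleteLib.isAdicComplete_of_finite
  haveI : IsAdicComplete (maximalIdeal L) L := by
    obtain ⟨h1, k, h2⟩ := NormalLib.exists_pow_jacobson_le (A := Rh) L
    rw [IsLocalRing.jacobson_eq_maximalIdeal ⊥ bot_ne_top] at h1 h2
    refine (Groth.Agent.S9604.result (Jh.map (algebraMap Rh L)) (maximalIdeal L) 1 (k + 1) one_pos
      (Nat.succ_pos k) (by rwa [pow_one]) ((Ideal.pow_le_pow_right (Nat.le_succ k)).trans h2) L).mp hLc
  -- the inverse maps
  have hψunit : ∀ y : n.primeCompl, IsUnit (((algebraMap T L).comp (algebraMap C T)) y) := fun y =>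
    IsLocalization.map_units L (⟨(y : C) ⊗ₜ 1, fun h => y.2 ((hMC _).mp h)⟩ : M.primeCompl)
  let ψ : C' →+* L := IsLocalization.lift (M := n.primeCompl) hψunit
  have hψ : ∀ c, ψ (algebraMap C C' c) = algebraMap T L (c ⊗ₜ 1) := fun c => IsLocalization.lift_eq _ c
  have hψJ : (maximalIdeal C').map ψ ≤ maximalIdeal L := by
    rw [← IsLocalization.AtPrime.map_eq_maximalIdeal n C', Ideal.map_map, Ideal.map_le_iff_le_comap]
    intro c hc
    rw [Ideal.mem_comap, RingHom.comp_apply, hψ]
    exact (IsLocalization.AtPrime.to_map_mem_maximal_iff L M _).mpr ((hMC c).mpr hc)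
  obtain ⟨φ, hφ⟩ := hliftH L ψ hψJ
  let χ : L →+* H := IsLocalization.lift (M := M.primeCompl) (g := θ.toRingHom) fun y =>
    notMem_maximalIdeal.mp fun h => y.2 h
  have hχ : ∀ t, χ (algebraMap T L t) = θ t := fun t => IsLocalization.lift_eq _ t
  have hχφ : χ.comp φ = RingHom.id H := by
    refine hextH H _ _ (fun a ha => ?_) (fun x => congrFun (congrArg DFunLike.coe
      (?_ : (χ.comp φ).comp (algebraMap C' H) = algebraMap C' H)) x)
    · rw [RingHom.comp_apply, hφ]
      suffices h : χ.comp ψ = algebraMap C' H by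
        show χ (ψ a) ∈ _
        rw [show χ (ψ a) = algebraMap C' H a from RingHom.congr_fun h a, ← Ideal.mem_comap, hHloc]
        exact ha
      refine IsLocalization.ringHom_ext n.primeCompl (RingHom.ext fun c => ?_)
      rw [RingHom.comp_apply, RingHom.comp_apply, hψ, hχ, hθC]
      rfl
    · refine IsLocalization.ringHom_ext n.primeCompl (RingHom.ext fun c => ?_)
      show χ (φ (algebraMap C' H (algebraMap C C' c))) = _
      rw [hφ, hψ, hχ, hθC]
      rfl
  have hφχ : φ.comp χ = RingHom.id L := by
    have hR : φ.comp r₀ = (algebraMap T L).comp (algebraMap Rh T) := by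
      have hRR : ∀ a, φ (r₀ (algebraMap R Rh a)) = algebraMap T L (algebraMap Rh T (algebraMap R Rh a)) := fun a => by
        rw [hr₀, hφ, hψ]
        refine congrArg _ ?_
        rw [Algebra.TensorProduct.right_algebraMap_apply, Algebra.algebraMap_eq_smul_one,
          Algebra.algebraMap_eq_smul_one, TensorProduct.smul_tmul]
      refine hextR L _ _ (fun a ha => ?_) hRR
      show φ (r₀ (algebraMap R Rh a)) ∈ _
      rw [hRR]
      exact (IsLocalization.AtPrime.to_map_mem_maximal_iff L M _).mpr
        (hJM (Ideal.mem_map_of_mem _ (hRh.le (Ideal.mem_map_of_mem _ ha))))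
    refine IsLocalization.ringHom_ext M.primeCompl (RingHom.ext fun t => ?_)
    show φ (χ (algebraMap T L t)) = algebraMap T L t
    rw [hχ]
    induction t using TensorProduct.induction_on with
    | zero => simp
    | tmul c z =>
      rw [Algebra.TensorProduct.lift_tmul, map_mul]
      show φ (algebraMap C H c) * φ (r₀ z) = _
      rw [show algebraMap C H c = algebraMap C' H (algebraMap C C' c) from rfl, hφ, hψ, show φ (r₀ z) = algebraMap T L (algebraMap Rh T z) from
        RingHom.congr_fun hR z, ← map_mul, Algebra.TensorProduct.right_algebraMap_apply,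
        Algebra.TensorProduct.tmul_mul_tmul, mul_one, one_mul]
    | add a b ha hb => rw [map_add, map_add, ha, hb, map_add]
  exact ⟨M, hMp, RingEquiv.ofRingHom φ χ hφχ hχφ, fun c => (hφ _).trans (hψ c)⟩

/-- The completion of a local ring of a finite algebra is a localisation of the base change of the completion. -/
theorem exists_cpl_equiv (R C C' : Type u) [CommRing R] [IsLocalRing R] [IsNoetherianRing R] [CommRing C]
    [Algebra R C] [Module.Finite R C] (n : Ideal C) [n.IsMaximal] [CommRing C'] [IsLocalRing C'] [IsNoetherianRing C']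
    [Algebra C C'] [IsLocalization.AtPrime C' n] :
    ∃ (M : Ideal (C ⊗[R] EGA4.Cpl R)) (_ : M.IsPrime) (e : EGA4.Cpl C' ≃+* Localization.AtPrime M),
      ∀ c : C, e (algebraMap C' (EGA4.Cpl C') (algebraMap C C' c)) =
        algebraMap (C ⊗[R] EGA4.Cpl R) (Localization.AtPrime M) (c ⊗ₜ[R] 1) := by
  have hmR : (maximalIdeal R).FG := IsNoetherian.noetherian _
  have hmC : (maximalIdeal C').FG := IsNoetherian.noetherian _
  haveI := AdicRingLib.isNoetherianRing_adicCompletion (maximalIdeal R)
  have hR : (maximalIdeal R).map (algebraMap R (AdicCompletion (maximalIdeal R) R)) =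
      maximalIdeal (AdicCompletion (maximalIdeal R) R) := (AdicCompletion.maximalIdeal_eq_map ..).symm
  have hH : (maximalIdeal C').map (algebraMap C' (AdicCompletion (maximalIdeal C') C')) =
      maximalIdeal (AdicCompletion (maximalIdeal C') C') := (AdicCompletion.maximalIdeal_eq_map ..).symm
  haveI : IsAdicComplete (maximalIdeal (AdicCompletion (maximalIdeal R) R)) (AdicCompletion (maximalIdeal R) R) :=
    hR ▸ AdicRingLib.isAdicComplete_map hmR
  haveI : IsAdicComplete (maximalIdeal (AdicCompletion (maximalIdeal C') C')) (AdicCompletion (maximalIdeal C') C') :=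
    hH ▸ AdicRingLib.isAdicComplete_map hmC
  letI : Algebra R C' := ((algebraMap C C').comp (algebraMap R C)).toAlgebra
  have hle : (maximalIdeal R).map ((algebraMap C' (AdicCompletion (maximalIdeal C') C')).comp (algebraMap R C')) ≤
      maximalIdeal (AdicCompletion (maximalIdeal C') C') := by
    rw [← hH, ← Ideal.map_map]
    refine Ideal.map_mono (Ideal.map_le_iff_le_comap.mpr fun r hr => ?_)
    haveI : Algebra.IsIntegral R C := Algebra.IsIntegral.of_finite R C
    show algebraMap C C' (algebraMap R C r) ∈ maximalIdeal C'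
    rw [← Ideal.mem_comap, show (maximalIdeal C').comap (algebraMap C C') = n from
      IsLocalization.AtPrime.under_maximalIdeal C' n, ← Ideal.mem_comap,
      IsLocalRing.eq_maximalIdeal (Ideal.isMaximal_comap_of_isIntegral_of_isMaximal (R := R) n)]
    exact hr
  refine exists_equiv_of_universal (H := AdicCompletion (maximalIdeal C') C') n hR (fun z => ?_)
    (CompleteLib.completionLift (maximalIdeal R) _ _ hle)
    (fun a => CompleteLib.completionLift_algebraMap (maximalIdeal R) _ _ hle a)
    (fun B _ _ _ f g h1 h2 => CompleteLib.completion_hom_ext (maximalIdeal R) (maximalIdeal B) hmR f g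
      (Ideal.map_le_iff_le_comap.mpr h1) h2)
    (fun B _ _ _ f g h1 h2 => CompleteLib.completion_hom_ext (maximalIdeal C') (maximalIdeal B) hmC f g
      (Ideal.map_le_iff_le_comap.mpr h1) h2)
    (fun B _ _ _ ψ h => ⟨CompleteLib.completionLift (maximalIdeal C') (maximalIdeal B) ψ h,
      CompleteLib.completionLift_algebraMap (maximalIdeal C') (maximalIdeal B) ψ h⟩)
  obtain ⟨a, ha⟩ := AdicRingLib.exists_sub_mem_map_pow hmR 1 z
  exact ⟨a, hR ▸ by rwa [pow_one] at ha⟩

end GRingFinLib
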