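import Mathlib
import Groth.Prelude.Def_Found
import Groth.Agent.GRingFinLib.Cpl
import Groth.Agent.JacFSLib.GeomReg

/-!
# Finite algebras over G-rings
-/

set_option autoImplicit false
set_option synthInstance.maxHeartbeats 80000
universe u

open TensorProduct IsLocalRing

namespace GRingFinLib

/-- Residue fields of localisations of finite algebras are finite over the residue fields below. -/
theorem finite_of_localization {R C C' : Type u} [CommRing R] [CommRing C] [CommRing C'] [Algebra R C]
    [Module.Finite R C] [Algebra C C'] (M : Submonoid C) [IsLocalization M C'] (r : Ideal C') [r.IsPrime]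
    (k : Type u) [Field k] [Algebra k r.ResidueField]
    [Algebra R k] [Algebra C r.ResidueField] [Algebra R r.ResidueField] [IsScalarTower R C r.ResidueField]
    [IsScalarTower C C' r.ResidueField] [IsScalarTower R k r.ResidueField] :
    Module.Finite k r.ResidueField := by
  classical
  obtain ⟨G, hG⟩ := Module.Finite.fg_top (R := R) (M := C)
  let K := r.ResidueField
  haveI : Finite ↥((algebraMap C K) '' (G : Set C)) := (G.finite_toSet.image _).to_subtype
  let E : IntermediateField k K := IntermediateField.adjoin k (algebraMap C K '' (G : Set C))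
  haveI : FiniteDimensional k E := IntermediateField.finiteDimensional_adjoin fun x hx => by
    obtain ⟨c, -, rfl⟩ := hx
    exact (((Algebra.IsIntegral.of_finite R C).isIntegral c).map (IsScalarTower.toAlgHom R C K)).tower_top
  have hC : ∀ c, algebraMap C K c ∈ E := by
    intro c
    have hc : c ∈ Submodule.span R (G : Set C) := hG ▸ trivial
    induction hc using Submodule.span_induction with
    | mem y hy => exact IntermediateField.subset_adjoin k _ ⟨y, hy, rfl⟩
    | zero => rw [map_zero]; exact zero_mem _
    | add a b _ _ ha hb => rw [map_add]; exact add_mem ha hb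
    | smul a b _ hb =>
      rw [Algebra.smul_def, map_mul, ← IsScalarTower.algebraMap_apply R C K, IsScalarTower.algebraMap_apply R k K]
      exact mul_mem (E.algebraMap_mem _) hb
  have hC' : ∀ x, algebraMap C' K x ∈ E := by
    intro x
    obtain ⟨c, s, rfl⟩ := IsLocalization.exists_mk'_eq M x
    have hu : IsUnit (algebraMap C K (s : C)) := by
      rw [IsScalarTower.algebraMap_apply C C' K]
      exact (IsLocalization.map_units C' s).map _
    have h1 : algebraMap C' K (IsLocalization.mk' C' c s) * algebraMap C K (s : C) = algebraMap C K c := by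
      rw [IsScalarTower.algebraMap_apply C C' K, IsScalarTower.algebraMap_apply C C' K c, ← map_mul,
        IsLocalization.mk'_spec]
    rw [(eq_mul_inv_iff_mul_eq₀ hu.ne_zero).mpr h1]
    exact mul_mem (hC c) (inv_mem (hC _))
  have htop : E = ⊤ := eq_top_iff.mpr fun z _ => by
    obtain ⟨x, y, -, rfl⟩ := IsFractionRing.div_surjective (A := C' ⧸ r) z
    obtain ⟨x, rfl⟩ := Ideal.Quotient.mk_surjective x
    obtain ⟨y, rfl⟩ := Ideal.Quotient.mk_surjective y
    exact div_mem (hC' x) (hC' y)
  exact Module.Finite.equiv ((IntermediateField.equivOfEq htop).trans IntermediateField.topEquiv).toLinearEquiv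

/-- Regularity of the completion map passes to localisations of finite algebras. -/
theorem isRegularHom_cpl_of_finite (R C C' : Type u) [CommRing R] [IsLocalRing R] [IsNoetherianRing R] [CommRing C]
    [Algebra R C] [Module.Finite R C] (n : Ideal C) [n.IsMaximal] [CommRing C'] [IsLocalRing C'] [IsNoetherianRing C']
    [Algebra C C'] [IsLocalization.AtPrime C' n]
    (h : CAlg.IsRegularHom R (EGA4.Cpl R)) : CAlg.IsRegularHom C' (EGA4.Cpl C') := by
  obtain ⟨M, hM, e, he⟩ := exists_cpl_equiv R C C' n
  haveI := AdicRingLib.isNoetherianRing_adicCompletion (maximalIdeal C')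
  let T := C ⊗[R] EGA4.Cpl R
  let L := Localization.AtPrime M
  letI : Algebra C' L := (e.toRingHom.comp (algebraMap C' (EGA4.Cpl C'))).toAlgebra
  let e' : EGA4.Cpl C' ≃ₐ[C'] L := AlgEquiv.ofRingEquiv (f := e) fun x => rfl
  haveI : IsScalarTower C C' L := IsScalarTower.of_algebraMap_eq fun c => by
    show _ = e (algebraMap C' (EGA4.Cpl C') (algebraMap C C' c))
    rw [he]
    exact IsScalarTower.algebraMap_apply C T L c
  refine ⟨inferInstance, fun r _ => ⟨?_, fun k' _ _ hk' => ?_⟩⟩
  · haveI : IsNoetherianRing (EGA4.Cpl C' ⊗[C'] r.ResidueField) :=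
      Algebra.EssFiniteType.isNoetherianRing (EGA4.Cpl C') _
    exact isNoetherianRing_of_ringEquiv _ (Algebra.TensorProduct.comm C' (EGA4.Cpl C') r.ResidueField).toRingEquiv
  let K := r.ResidueField
  letI : Algebra C' k' := ((algebraMap K k').comp (algebraMap C' K)).toAlgebra
  haveI : IsScalarTower C' K k' := IsScalarTower.of_algebraMap_eq fun x => rfl
  letI : Algebra C K := ((algebraMap C' K).comp (algebraMap C C')).toAlgebra
  haveI : IsScalarTower C C' K := IsScalarTower.of_algebraMap_eq fun x => rfl
  letI : Algebra C k' := ((algebraMap C' k').comp (algebraMap C C')).toAlgebra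
  haveI : IsScalarTower C C' k' := IsScalarTower.of_algebraMap_eq fun x => rfl
  letI : Algebra R K := ((algebraMap C K).comp (algebraMap R C)).toAlgebra
  haveI : IsScalarTower R C K := IsScalarTower.of_algebraMap_eq fun x => rfl
  letI : Algebra R k' := ((algebraMap C k').comp (algebraMap R C)).toAlgebra
  haveI : IsScalarTower R C k' := IsScalarTower.of_algebraMap_eq fun x => rfl
  -- the residue field below
  let s : Ideal R := RingHom.ker (algebraMap R K)
  haveI : s.IsPrime := RingHom.ker_isPrime _
  let j : s.ResidueField →+* K := Ideal.ResidueField.lift s (algebraMap R K) le_rfl fun a ha =>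
    isUnit_iff_ne_zero.mpr fun hc => ha hc
  letI := j.toAlgebra
  haveI : IsScalarTower R s.ResidueField K := IsScalarTower.of_algebraMap_eq fun a =>
    (Ideal.ResidueField.lift_algebraMap ..).symm
  letI : Algebra s.ResidueField k' := ((algebraMap K k').comp j).toAlgebra
  haveI : IsScalarTower s.ResidueField K k' := IsScalarTower.of_algebraMap_eq fun x => rfl
  haveI : IsScalarTower R s.ResidueField k' := IsScalarTower.of_algebraMap_eq fun a => by
    show algebraMap K k' (algebraMap R K a) = algebraMap K k' (j (algebraMap R s.ResidueField a))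
    exact congrArg _ (Ideal.ResidueField.lift_algebraMap ..).symm
  haveI : Module.Finite s.ResidueField K := finite_of_localization (R := R) n.primeCompl r s.ResidueField
  haveI : Module.Finite s.ResidueField k' := Module.Finite.trans K k'
  haveI hreg : IsRegularRing (k' ⊗[s.ResidueField] s.Fiber (EGA4.Cpl R)) := (h.2 s).2 k' inferInstance
  haveI : IsRegularRing (k' ⊗[C] T) := IsRegularRing.of_ringEquiv (R := k' ⊗[s.ResidueField] s.Fiber (EGA4.Cpl R))
    (((Algebra.TensorProduct.cancelBaseChange R s.ResidueField s.ResidueField k' (EGA4.Cpl R)).toRingEquiv.trans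
      (Algebra.TensorProduct.cancelBaseChange R C C k' (EGA4.Cpl R)).symm.toRingEquiv))
  letI : Algebra (k' ⊗[C] T) (k' ⊗[C] L) :=
    (Algebra.TensorProduct.map (AlgHom.id C k') (IsScalarTower.toAlgHom C T L)).toAlgebra
  haveI : IsScalarTower k' (k' ⊗[C] T) (k' ⊗[C] L) :=
    IsScalarTower.of_algebraMap_eq (R := k') (S := k' ⊗[C] T) (A := k' ⊗[C] L) fun x => by
      show x ⊗ₜ[C] (1 : L) = x ⊗ₜ[C] (algebraMap T L 1)
      rw [map_one]
  have hloc := IsLocalization.tensorProduct_tensorProduct_right C k' M.primeCompl L
    (by ext <;> rfl)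
  haveI : IsRegularRing (k' ⊗[C] L) :=
    @JacFSLib.isRegularRing_of_isLocalization (k' ⊗[C] T) (k' ⊗[C] L) _ _ _ _ _ hloc
  haveI : TensorProduct.CompatibleSMul C' C k' L := inferInstance
  haveI : TensorProduct.CompatibleSMul C C' k' L := IsLocalization.tensorProduct_compatibleSMul n.primeCompl C' k' L
  refine IsRegularRing.of_ringEquiv (R := k' ⊗[C] L) ?_
  exact ((Algebra.TensorProduct.cancelBaseChange C' K K k' (EGA4.Cpl C')).toRingEquiv.trans
    ((Algebra.TensorProduct.congr (AlgEquiv.refl (R := C') (A₁ := k')) e').toRingEquiv.trans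
      (Algebra.TensorProduct.equivOfCompatibleSMul C C' C k' L).toRingEquiv)).symm

/-- A finite algebra over a G-ring is a G-ring. -/
theorem isGRing_of_finite (A B : Type u) [CommRing A] [CommRing B] [Algebra A B] [Module.Finite A B]
    (hA : CAlg.IsGRing A) : CAlg.IsGRing B := by
  haveI := hA.1
  haveI : IsNoetherianRing B := IsNoetherianRing.of_finite A B
  refine ⟨inferInstance, fun q _ => ?_⟩
  let p := q.comap (algebraMap A B)
  let R := Localization.AtPrime p
  let Bp := Localization (Algebra.algebraMapSubmonoid B p.primeCompl)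
  haveI : Module.Finite R Bp :=
    Module.Finite.of_isLocalizedModule p.primeCompl (Rₚ := R) (IsScalarTower.toAlgHom A B Bp).toLinearMap
  have hd : Disjoint (Algebra.algebraMapSubmonoid B p.primeCompl : Set B) (q : Set B) :=
    Set.disjoint_left.mpr fun x hx hxq => by
      obtain ⟨a, ha, rfl⟩ := hx
      exact ha hxq
  let nB := q.map (algebraMap B Bp)
  haveI : nB.IsPrime := IsLocalization.isPrime_of_isPrime_disjoint _ _ q ‹_› hd
  have hnq : nB.comap (algebraMap B Bp) = q := IsLocalization.under_map_of_isPrime_disjoint _ Bp ‹_› hd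
  haveI : nB.IsMaximal := by
    refine Ideal.isMaximal_of_isIntegral_of_isMaximal_comap (R := R) nB ?_
    have h1 : nB.comap (algebraMap R Bp) = IsLocalRing.maximalIdeal R := by
      refine IsLocalization.AtPrime.under_maximalIdeal R p |> fun h2 => ?_
      have h3 : (nB.comap (algebraMap R Bp)).comap (algebraMap A R) = p := by
        rw [Ideal.comap_comap, ← IsScalarTower.algebraMap_eq, IsScalarTower.algebraMap_eq A B Bp, ← Ideal.comap_comap,
          hnq]
      rw [← IsLocalization.map_under p.primeCompl R (nB.comap (algebraMap R Bp)),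
        ← IsLocalization.AtPrime.map_eq_maximalIdeal p R]
      exact congrArg _ h3
    rw [h1]
    infer_instance
  let Bq := Localization.AtPrime q
  letI : Algebra Bp Bq := IsLocalization.localizationAlgebraOfSubmonoidLe Bp Bq
    (Algebra.algebraMapSubmonoid B p.primeCompl) q.primeCompl fun x hx hxq => Set.disjoint_left.mp hd hx hxq
  haveI : IsScalarTower B Bp Bq := IsLocalization.localization_isScalarTower_of_submonoid_le _ _ _ _ _
  haveI : IsLocalization.AtPrime Bq nB := by
    haveI := IsLocalization.isLocalization_of_submonoid_le Bp Bq (Algebra.algebraMapSubmonoid B p.primeCompl)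
      q.primeCompl (fun x hx hxq => Set.disjoint_left.mp hd hx hxq)
    refine IsLocalization.of_le (q.primeCompl.map (algebraMap B Bp)) nB.primeCompl ?_ fun x hx => ?_
    · rintro _ ⟨b, hb, rfl⟩ hbn
      exact hb (hnq.le hbn)
    · obtain ⟨b, s, rfl⟩ := IsLocalization.exists_mk'_eq (Algebra.algebraMapSubmonoid B p.primeCompl) x
      have hb : b ∉ q := fun hbq => hx (by
        rw [SetLike.mem_coe, IsLocalization.mk'_mem_iff]
        exact Ideal.mem_map_of_mem _ hbq)
      have h1 := IsLocalization.mk'_spec Bp b s
      have h2 := congrArg (algebraMap Bp Bq) h1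
      rw [map_mul, ← IsScalarTower.algebraMap_apply B Bp Bq, ← IsScalarTower.algebraMap_apply B Bp Bq] at h2
      exact isUnit_of_mul_isUnit_left (h2 ▸ IsLocalization.map_units Bq (⟨b, hb⟩ : q.primeCompl))
  exact isRegularHom_cpl_of_finite R Bp Bq nB (hA.2 p)

end GRingFinLib
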