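import Mathlib
import Groth.Prelude.Def_EGA4b
import Groth.Agent.GRingFinLib.GRing
import Groth.Agent.CatLib.More

/-!
# Finite algebras over excellent rings
-/

set_option autoImplicit false
universe u

namespace GRingFinLib

/-- A finite algebra over an excellent ring is excellent. -/
theorem isExcellent_of_finite (A B : Type u) [CommRing A] [CommRing B] [Algebra A B] [Module.Finite A B]
    (hA : EGA4.IsExcellent A) : EGA4.IsExcellent B := by
  obtain ⟨hN, hU, hG, hJ⟩ := hA
  haveI := hN
  refine ⟨IsNoetherianRing.of_finite A B, CatLib.isUniversallyCatenary_of_essFiniteType A B hU,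
    isGRing_of_finite A B hG, fun T _ _ hT => ?_⟩
  letI : Algebra A T := ((algebraMap B T).comp (algebraMap A B)).toAlgebra
  haveI : IsScalarTower A B T := IsScalarTower.of_algebraMap_eq fun a => rfl
  exact hJ T (Algebra.FiniteType.trans inferInstance hT)

end GRingFinLib
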